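import Cfsg.Agent.SPOR.S3E.Star
import Cfsg.Agent.TECH.SylIn

/-!
A strongly 3-embedded subgroup `2²⁰ : U₆(2)` or `2²⁰ : U₆(2).2`: fusion of good elements, the key
bound and weak closure.
-/

set_option autoImplicit false

namespace CL.S3E

open CL.E6U CL.LE CL.TTU CL.TTU.U6 CL.FiA Subgroup
open scoped CL.MSS

variable {X G : Type*} [Group X] [Group G]

theorem ncard_two (I : AddSubgroup V) {x : V} (hx : x ∉ I) :
    ((I : Set V) ∪ (x + ·) '' I).ncard = 2 * (I : Set V).ncard := by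
  rw [Set.ncard_union_eq (Set.disjoint_left.2 ?_), Set.ncard_image_of_injective _ (add_right_injective x),
    two_mul]
  rintro _ h ⟨y, hy, rfl⟩
  exact hx (by simpa using I.sub_mem h hy)

theorem two_sub {I : AddSubgroup V} {W : Set V} (hW : ∀ v ∈ W, ∀ w ∈ W, v + w ∈ W) (h : (I : Set V) ⊆ W)
    {x : V} (hx : x ∈ W) : (I : Set V) ∪ (x + ·) '' I ⊆ W :=
  Set.union_subset h (by rintro _ ⟨y, hy, rfl⟩; exact hW _ hx _ (h hy))

theorem exists_lin {A : Subgroup X} {α : V → X} (add : ∀ v w, α (v + w) = α v * α w)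
    (inj : Function.Injective α) (memA : ∀ x, x ∈ A ↔ ∃ v, α v = x) {h : X}
    (hh : h ∈ normalizer (A : Set X)) : ∃ φ : V ≃ₗ[ZMod 2] V, ∀ v, h * α v * h⁻¹ = α (φ v) := by
  choose ψ hψ using fun v => (memA _).1 ((mem_normalizer_iff.1 hh (α v)).1 ((memA _).2 ⟨v, rfl⟩))
  let f : V →ₗ[ZMod 2] V := (AddMonoidHom.mk' ψ fun v w => inj (by
    rw [add, hψ, hψ, hψ, add, conj_mul])).toZModLinearMap 2
  exact ⟨LinearEquiv.ofInjectiveEndo f fun v w (e : ψ v = ψ w) => inj (by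
    simpa using (hψ v).symm.trans ((congrArg α e).trans (hψ w))), fun v => (hψ v).symm⟩

/-- the situation -/
structure St (A K : Subgroup X) (α : V → X) (ι : G →* X) (σ : Rp G) (E : Set G) (t : ℕ → G) : Prop where
  add : ∀ v w, α (v + w) = α v * α w
  inj : Function.Injective α
  memA : ∀ x, x ∈ A ↔ ∃ v, α v = x
  ιinj : Function.Injective ι
  act : ∀ g v, ι g * α v * (ι g)⁻¹ = α (σ g v)
  σinj : Function.Injective σ
  U : UX E t
  gp : Gp E
  ch : Ch E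
  iv : ∀ k : G, k * k = 1 → ∃ l, Fr E l ∧ l.length ≤ 3 ∧ l.prod = k
  simple : IsSimpleGroup G
  KH : K ≤ normalizer (A : Set X)
  dec : ∀ h ∈ normalizer (A : Set X), ∃ v, ∃ k ∈ K, h = α v * k
  AK : ∀ v, α v ∈ K → v = 0
  ιK : ∀ g, ι g ∈ K
  two : ∀ x ∈ K, ∀ y ∈ K, x ∉ ι.range → y ∉ ι.range → x * y ∈ ι.range
  nrm : ∀ x ∈ K, ∀ g, x * ι g * x⁻¹ ∈ ι.range
  cen : ∀ x ∈ K, (∀ g, Commute x (ι g)) → x = 1
  min : ∀ B : Subgroup X, B ≤ A → (∀ h ∈ normalizer (A : Set X), ∀ b ∈ B, h * b * h⁻¹ ∈ B) → B = ⊥ ∨ B = A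
  h3 : ∀ g ∉ normalizer (A : Set X), ∀ y ∈ normalizer (A : Set X), y ^ 3 = 1 →
    g⁻¹ * y * g ∈ normalizer (A : Set X) → y = 1

/-- centralised by an element of order three of `H` -/
def Good (H : Subgroup X) (b : X) : Prop := ∃ y ∈ H, y ≠ 1 ∧ y ^ 3 = 1 ∧ Commute y b

namespace St

variable {A K : Subgroup X} {α : V → X} {ι : G →* X} {σ : Rp G} {E : Set G} {t : ℕ → G}
  (S : St A K α ι σ E t)
include S

theorem α0 : α 0 = 1 := by simpa using S.add 0 0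

theorem αsq (v : V) : α v * α v = 1 := by rw [← S.add, v2_add_self, S.α0]

theorem αcom (v w : V) : Commute (α v) (α w) := by rw [commute_iff_eq, ← S.add, ← S.add, add_comm]

theorem αA (v : V) : α v ∈ A := (S.memA _).2 ⟨v, rfl⟩

theorem αH (v : V) : α v ∈ normalizer (A : Set X) := le_normalizer (S.αA v)

theorem ιH (g : G) : ι g ∈ normalizer (A : Set X) := S.KH (S.ιK g)

theorem comA {a b : X} (ha : a ∈ A) (hb : b ∈ A) : Commute a b := by
  obtain ⟨v, rfl⟩ := (S.memA _).1 ha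
  obtain ⟨w, rfl⟩ := (S.memA _).1 hb
  exact S.αcom v w

theorem sqA {a : X} (ha : a ∈ A) : a * a = 1 := by
  obtain ⟨v, rfl⟩ := (S.memA _).1 ha
  exact S.αsq v

theorem pgA : IsPGroup 2 A := MSS.isPGroup_iff_forall_mem.2 fun x hx => ⟨1, by simpa [sq] using S.sqA hx⟩

theorem cardA : Nat.card A = 2 ^ 20 := by
  rw [← card_V, ← Set.ncard_univ V, ← Set.ncard_image_of_injective _ S.inj]
  exact congrArg Set.ncard (Set.ext fun x => by simpa using S.memA x)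

theorem mul (v w : V) (g h : G) : α v * ι g * (α w * ι h) = α (v + σ g w) * ι (g * h) := by
  rw [S.add, ← S.act, map_mul]; group

theorem uniq {v w : V} {g h : G} (e : α v * ι g = α w * ι h) : v = w ∧ g = h := by
  have h1 : α (w + v) = ι (h * g⁻¹) := by
    rw [S.add, map_mul, map_inv, eq_mul_inv_iff_mul_eq, mul_assoc, e, ← mul_assoc, S.αsq, one_mul]
  have h2 := v2_add_eq_zero.1 (S.AK _ (h1 ▸ S.ιK _))
  exact ⟨h2.symm, S.ιinj (mul_left_cancel (h2 ▸ e))⟩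

theorem eq_one_of_mem {v : V} {g : G} (h : α v * ι g ∈ A) : g = 1 := by
  obtain ⟨w, e⟩ := (S.memA _).1 h
  exact (S.uniq (e.symm.trans (by rw [map_one, mul_one] : α w = α w * ι 1))).2

theorem of_sq {v : V} {k : G} (h : α v * ι k * (α v * ι k) = 1) : k * k = 1 ∧ σ k v = v := by
  have := S.uniq (w := 0) (h := 1) ((S.mul v v k k).symm.trans (by rw [h, S.α0, map_one, mul_one]))
  exact ⟨this.2, (v2_add_eq_zero.1 this.1).symm⟩

theorem com_iff {v w : V} {k : G} : Commute (α w) (α v * ι k) ↔ σ k w = w := by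
  rw [commute_iff_eq, ← mul_assoc, ← S.add, ← mul_one (α w), ← map_one ι, S.mul, mul_one,
    mul_left_inj, S.inj.eq_iff, add_comm, add_right_inj, eq_comm]

theorem good {v : V} {k : G} (h : Gd σ k v) : Good (normalizer (A : Set X)) (α v * ι k) := by
  obtain ⟨y, x, h1, h2, h3, h4⟩ := h
  have hz := mul_mem (S.αH x) (S.ιH y)
  refine ⟨α x * ι y * (α x * ι y), mul_mem hz hz, fun e => h1 ?_, ?_, ?_⟩
  · rw [← h2, pow_three, (S.of_sq e).1, mul_one]
  · rw [← sq, ← pow_mul, mul_comm 2, pow_mul, pow_three, S.mul, S.mul, ← pow_three, h2, map_one, mul_one, sq,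
      S.αsq]
  · have : Commute (α x * ι y) (α v * ι k) := by
      rw [commute_iff_eq, S.mul, S.mul, h3.eq]
      congr 2
      linear_combination (norm := abel) h4 + v2_add_self x - v2_add_self v
    exact this.mul_left this

theorem goodA {a : X} (ha : a ∈ A) : Good (normalizer (A : Set X)) a := by
  obtain ⟨v, rfl⟩ := (S.memA _).1 ha
  obtain ⟨β, D⟩ := exists_model S.U S.σinj
  obtain ⟨w, rfl⟩ := β.surjective v
  simpa using S.good (D.gd_one w).of_cjR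

theorem u3 {y a c : X} (h1 : y ≠ 1) (h2 : y ^ 3 = 1) (ha : a⁻¹ * y * a ∈ normalizer (A : Set X))
    (hc : c⁻¹ * y * c ∈ normalizer (A : Set X)) : a⁻¹ * c ∈ normalizer (A : Set X) := by
  by_contra hn
  have := S.h3 _ hn _ ha (by rw [← inv_inv a, inv_inv a⁻¹, conj_pow, h2]; simp) (by simpa [mul_assoc] using hc)
  exact h1 (by simpa [mul_assoc] using congrArg (fun z => a * z * a⁻¹) this)

variable [Finite X]

theorem pg3 {P : Subgroup X} (hP : IsPGroup 3 P) {y a : X} (hy : y ∈ P) (h1 : y ≠ 1) (h2 : y ^ 3 = 1)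
    (ha : a⁻¹ * y * a ∈ normalizer (A : Set X)) {p : X} (hp : p ∈ P) :
    a⁻¹ * p * a ∈ normalizer (A : Set X) := by
  have : Fact (Nat.Prime 3) := ⟨Nat.prime_three⟩
  obtain ⟨z, hz⟩ := exists_prime_orderOf_dvd_card' 3 (MSS.dvd_card_of_isPGroup_le (hP.to_inf_left)
    (MSS.inf_centralizer_ne_bot hP hP le_normalizer fun e => h1 (by rwa [e] at hy)) le_rfl)
  rw [← orderOf_coe] at hz
  have c := mem_centralizer_iff.1 z.2.2
  have z1 : (z : X) ≠ 1 := fun e => by simp [e] at hz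
  have h3 := S.u3 (c := z * a) h1 h2 ha (by simpa [mul_assoc, ← mul_assoc y, c y hy] using ha)
  rw [← mul_assoc] at h3
  rw [mul_assoc]
  exact S.u3 z1 (hz ▸ pow_orderOf_eq_one _) h3 (by simpa [mul_assoc, ← mul_assoc z.1, ← c p hp] using h3)

theorem fuse {b g : X} (h : Good (normalizer (A : Set X)) b) (h' : Good (normalizer (A : Set X)) (g * b * g⁻¹)) :
    ∃ x ∈ normalizer (A : Set X), g * b * g⁻¹ = x * b * x⁻¹ := by
  have : Fact (Nat.Prime 3) := ⟨Nat.prime_three⟩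
  obtain ⟨y, hy, h1, h2, h3⟩ := h
  obtain ⟨z, hz, k1, k2, k3⟩ := h'
  obtain ⟨P, hP, le⟩ := MSS.exists_sylIn_ge (MSS.isPGroup_zpowers (p := 3) (k := 1) k2)
    (H := centralizer {g * b * g⁻¹}) (zpowers_le.2 (mem_centralizer_singleton_iff.2 k3))
  have h4 : (g * y * g⁻¹) ^ 3 = 1 := by rw [conj_pow, h2]; simp
  obtain ⟨x, hx, le'⟩ := hP.exists_conj_le (MSS.isPGroup_zpowers (p := 3) (k := 1) h4)
    (zpowers_le.2 (mem_centralizer_singleton_iff.2 (h3.conj g)))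
  have h5 := S.pg3 hP.pgroup (le (mem_zpowers z)) k1 k2 (a := 1) (by simpa using hz)
    (le' (MSS.conj_mem_cj (mem_zpowers _)))
  have h6 := S.u3 (a := 1) (c := (x * g)⁻¹) h1 h2 (by simpa using hy) (by simpa [mul_assoc] using h5)
  refine ⟨x * g, by simpa using inv_mem h6, ?_⟩
  rw [← mul_inv_cancel_right (g * b * g⁻¹) x, ← mem_centralizer_singleton_iff.1 hx]
  group

theorem memA_of_good {a g : X} (ha : a ∈ A) (h : Good (normalizer (A : Set X)) (g * a * g⁻¹)) :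
    g * a * g⁻¹ ∈ A := by
  obtain ⟨x, hx, e⟩ := S.fuse (S.goodA ha) h
  exact e ▸ (mem_normalizer_iff.1 hx a).1 ha

omit [Finite X] in
/-- the subgroup `2²⁰ : U₆(2)` -/
def H0 : Subgroup X where
  carrier := {x | ∃ v g, x = α v * ι g}
  mul_mem' := by rintro _ _ ⟨v, g, rfl⟩ ⟨w, h, rfl⟩; exact ⟨_, _, S.mul v w g h⟩
  one_mem' := ⟨0, 1, by rw [S.α0, map_one, mul_one]⟩
  inv_mem' := by
    rintro _ ⟨v, g, rfl⟩
    exact ⟨σ g⁻¹ v, g⁻¹, inv_eq_of_mul_eq_one_right (by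
      rw [S.mul, ← σ_mul, mul_inv_cancel, σ_one, v2_add_self, S.α0, map_one, mul_one])⟩

/-- the part in `A` -/
def Iv (R : Subgroup X) : AddSubgroup V where
  carrier := {v | α v ∈ R}
  add_mem' ha hb := by rw [Set.mem_ofPred_eq, S.add]; exact mul_mem ha hb
  zero_mem' := by rw [Set.mem_ofPred_eq, S.α0]; exact one_mem _
  neg_mem' h := by rwa [v2_neg]

omit [Finite X] in
theorem card_Iv (R : Subgroup X) : (S.Iv R : Set V).ncard = Nat.card (R ⊓ A : Subgroup X) := by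
  rw [← Set.ncard_image_of_injective _ S.inj]
  refine congrArg Set.ncard (Set.ext fun x => ⟨?_, fun h => ?_⟩)
  · rintro ⟨v, hv, rfl⟩; exact ⟨hv, S.αA v⟩
  · obtain ⟨v, rfl⟩ := (S.memA _).1 h.2
    exact ⟨v, h.1, rfl⟩

theorem b2_of {g : X} {v : V} {k : G} (h : α v * ι k ∈ g •ᶜ A) (h1 : k ≠ 1) :
    B2 E k ∧ σ k v = v ∧ ¬ Gd σ k v := by
  obtain ⟨a, ha, e⟩ := MSS.mem_cj'.1 h
  have h2 := S.of_sq (v := v) (k := k) (by rw [← e, conj_mul, S.sqA ha]; simp)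
  have h3 : ¬ Gd σ k v := fun h => h1 (S.eq_one_of_mem (e ▸ S.memA_of_good ha (e ▸ S.good h)))
  exact ⟨(gd_or S.U S.σinj S.iv h2.1).resolve_right fun h => h3 (h v h2.2), h2.2, h3⟩

omit [Finite X] in
theorem com_cj {g a b : X} (ha : a ∈ g •ᶜ A) (hb : b ∈ g •ᶜ A) : Commute a b := by
  obtain ⟨a, h1, rfl⟩ := MSS.mem_cj'.1 ha
  obtain ⟨b, h2, rfl⟩ := MSS.mem_cj'.1 hb
  exact (S.comA h1 h2).conj g

/-- The key bound. -/
theorem key {R : Subgroup X} (hR : R ≤ S.H0) {g : X} (hg : R ≤ g •ᶜ A)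
    (h : 2 ^ 13 ≤ Nat.card R ∨ 2 ^ 12 ≤ Nat.card R ∧ ∃ j ∈ A, j ∉ R ∧ ∀ r ∈ R, Commute j r) : R ≤ A := by
  have := S.U.finite
  choose v p e using fun r : R => hR r.2
  let f : R →* G := MonoidHom.mk' p fun a b => (S.uniq (by
    rw [← e, ← S.mul, ← e, ← e]; rfl)).2
  have h1 := f.ker.card_mul_index
  rw [index_ker, ← card_map_of_injective R.subtype_injective, show f.ker.map R.subtype = R ⊓ A from
    le_antisymm (by
      rintro _ ⟨r, hr : p r = 1, rfl⟩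
      exact ⟨r.2, by rw [coe_subtype, e, hr, map_one, mul_one]; exact S.αA _⟩)
      fun x hx => ⟨⟨x, hx.1⟩, S.eq_one_of_mem ((e ⟨x, hx.1⟩).subst (motive := (· ∈ A)) hx.2), rfl⟩, ← S.card_Iv] at h1
  have hI : (S.Iv R : Set V) ⊆ Fx σ f.range := by
    rintro w hw _ ⟨r, rfl⟩
    exact S.com_iff.1 (e r ▸ S.com_cj (hg hw) (hg r.2))
  by_cases h4 : 4 ≤ Nat.card f.range
  · have h2 := star S.U S.σinj (D := f.range) (by
      rintro _ ⟨r, rfl⟩ h1
      exact (S.b2_of (e r ▸ hg r.2) h1).1) h4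
    rcases h with h | ⟨h, j, hj, h5, h6⟩
    · have := Nat.mul_le_mul_left (Nat.card f.range) (Set.ncard_le_ncard hI (Set.toFinite _))
      rw [mul_comm] at h1
      omega
    · obtain ⟨j, rfl⟩ := (S.memA _).1 hj
      have := Nat.mul_le_mul_left (Nat.card f.range) (Set.ncard_le_ncard (two_sub (fx_add σ _) hI (x := j) (by
        rintro _ ⟨r, rfl⟩
        exact S.com_iff.1 (e r ▸ h6 r r.2))) (Set.toFinite _))
      rw [ncard_two _ h5, mul_left_comm, mul_comm (Nat.card f.range), h1] at this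
      omega
  intro r hr
  by_contra hn
  have k1 : p ⟨r, hr⟩ ≠ 1 := fun q => hn (by
    rw [show r = _ from e ⟨r, hr⟩, q, map_one, mul_one]; exact S.αA _)
  have hr' : α (v ⟨r, hr⟩) * ι (p ⟨r, hr⟩) ∈ R := e ⟨r, hr⟩ ▸ hr
  have hk : p ⟨r, hr⟩ ∈ f.range := ⟨⟨r, hr⟩, rfl⟩
  generalize p ⟨r, hr⟩ = k at k1 hr' hk
  generalize v ⟨r, hr⟩ = a at hr'
  obtain ⟨b2, fa, -⟩ := S.b2_of (hg hr') k1
  have c12 := card_B2 S.U S.σinj b2
  have h2 : 2 ∣ Nat.card f.range := by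
    rw [← orderOf_eq_prime (p := 2) (by rw [sq, b2.sq S.U.R.fs]) k1]
    exact orderOf_dvd_natCard _ hk
  have h3 : 2 ^ 12 ≤ 2 * (S.Iv R : Set V).ncard := by
    have : Nat.card f.range = 0 ∨ Nat.card f.range = 2 := by omega
    rcases this with q | q <;> rw [q] at h1 <;> omega
  have hI' : (S.Iv R : Set V) ⊆ Fx σ {k} := fun w hw x hx => hI hw x (hx ▸ hk)
  have ng : ∀ w, Gd σ k w → w + a ∉ S.Iv R := fun w hw hm => (S.b2_of (v := w) (hg (by
    have := mul_mem (show α (w + a) ∈ R from hm) hr'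
    rwa [← mul_assoc, ← S.add, v2_add_add_cancel'] at this)) k1).2.2 hw
  have g0 : a ∉ S.Iv R := by
    refine zero_add a ▸ ng 0 (by_contra fun hn => ?_)
    have := Set.ncard_le_ncard (show Fx σ {k} ⊆ {0} from fun w hw => span_B2 S.U S.σinj b2 ⊥
      (fun _ _ ⟨y, _, h1, h2, h3, _⟩ => absurd ⟨y, 0, h1, h2, h3, by simp⟩ hn) (hw k rfl)) (Set.toFinite _)
    rw [c12, Set.ncard_singleton] at this
    omega
  have ha : a ∈ Fx σ {k} := fun x hx => hx ▸ fa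
  have eq := Set.eq_of_subset_of_ncard_le (two_sub (fx_add σ _) hI' ha) (by rwa [c12, ncard_two _ g0])
    (Set.toFinite _)
  refine g0 (span_B2 S.U S.σinj b2 _ (fun w hw h => ?_) fa)
  obtain ⟨y, hy, q⟩ := (eq.ge (fx_add σ {k} w (fun x hx => hx ▸ hw) a ha)).resolve_left (ng w h)
  rwa [add_comm w, add_right_inj, ← q] at *

omit [Finite X] in
theorem mem_range {u : X} (hu : u ∈ K) (h : u ∈ S.H0) : u ∈ ι.range := by
  obtain ⟨v, g, rfl⟩ := h
  rw [S.AK v (by simpa using mul_mem hu (inv_mem (S.ιK g))), S.α0, one_mul]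
  exact ⟨g, rfl⟩

omit [Finite X] in
theorem αH0 (v : V) : α v ∈ S.H0 := ⟨v, 1, by rw [map_one, mul_one]⟩

omit [Finite X] in
theorem ιH0 {x : X} (h : x ∈ ι.range) : x ∈ S.H0 := let ⟨g, e⟩ := h; ⟨0, g, by rw [S.α0, one_mul, e]⟩

omit [Finite X] in
theorem AH0 : A ≤ S.H0 := fun _ h => let ⟨v, e⟩ := (S.memA _).1 h; e ▸ S.αH0 v

omit [Finite X] in
theorem two0 {x y : X} (hx : x ∈ normalizer (A : Set X)) (hy : y ∈ normalizer (A : Set X)) (h1 : x ∉ S.H0)
    (h2 : y ∉ S.H0) : x * y ∈ S.H0 := by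
  obtain ⟨v, k, hk, rfl⟩ := S.dec x hx
  obtain ⟨w, l, hl, rfl⟩ := S.dec y hy
  rw [show α v * k * (α w * l) = α v * (k * α w * k⁻¹) * (k * l) by group]
  exact mul_mem (mul_mem (S.αH0 v) (S.AH0 ((mem_normalizer_iff.1 (S.KH hk) _).1 (S.αA w)))) (S.ιH0 (S.two k hk l hl
    (fun h => h1 (mul_mem (S.αH0 v) (S.ιH0 h))) fun h => h2 (mul_mem (S.αH0 w) (S.ιH0 h))))

theorem half {B : Subgroup X} (hB : B ≤ normalizer (A : Set X)) :
    Nat.card B ≤ 2 * Nat.card (B ⊓ S.H0 : Subgroup X) := by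
  by_cases h : B ≤ S.H0
  · rw [inf_of_le_left h]; omega
  obtain ⟨x, hx, h⟩ := SetLike.not_le_iff_exists.1 h
  have : (B : Set X) ⊆ (B ⊓ S.H0 : Subgroup X) ∪ (x⁻¹ * ·) '' (B ⊓ S.H0 : Subgroup X) := fun y hy =>
    (em (y ∈ S.H0)).imp (fun q => ⟨hy, q⟩) fun q => ⟨x * y, ⟨mul_mem hx hy, S.two0 (hB hx) (hB hy) h q⟩, by simp⟩
  rw [two_mul]
  exact (Set.ncard_le_ncard this (Set.toFinite _)).trans ((Set.ncard_union_le _ _).trans
    (add_le_add le_rfl (Set.ncard_image_le (Set.toFinite _))))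

omit [Finite X] in
theorem exists_aut {u : X} (hu : u ∈ K) : ∃ θ : G ≃* G, ∀ g, u * ι g * u⁻¹ = ι (θ g) := by
  have := S.U.finite
  choose ψ hψ using S.nrm u hu
  exact ⟨MulEquiv.ofBijective (MonoidHom.mk' ψ fun a b => S.ιinj (by
    rw [map_mul, hψ, hψ, hψ, map_mul, conj_mul])) (Finite.injective_iff_bijective.1 fun a b (e : ψ a = ψ b) =>
      S.ιinj (by simpa using (hψ a).symm.trans ((congrArg ι e).trans (hψ b)))), fun g => (hψ g).symm⟩

omit [Finite X] in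
theorem cen' {u : X} (hu : u ∈ K) (h : ∀ e ∈ E, Commute u (ι e)) : u = 1 :=
  S.cen u hu fun g => closure_induction (fun e he => h e he) (by simp)
    (fun _ _ _ _ h1 h2 => by rw [map_mul]; exact h1.mul_right h2)
    (fun _ _ h1 => by rw [map_inv]; exact h1.inv_right) (S.U.mem g)

/-- `A` is weakly closed. -/
theorem weak {g : X} (h : g •ᶜ A ≤ normalizer (A : Set X)) : g ∈ normalizer (A : Set X) := by
  have h1 := S.half h
  rw [MSS.card_cj, S.cardA] at h1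
  have h2 := S.key (R := g •ᶜ A ⊓ S.H0) inf_le_right inf_le_left (Or.inl (by omega))
  refine MSS.mem_normalizer_of_cj_le fun b hb => h2 ⟨hb, by_contra fun hn => ?_⟩
  obtain ⟨v, u, hu, rfl⟩ := S.dec b (h hb)
  obtain ⟨θ, hθ⟩ := S.exists_aut hu
  have hc : ∀ w ∈ S.Iv (g •ᶜ A ⊓ S.H0), Commute u (α w) := fun w hw => by
    simpa using (S.αcom v w).inv_left.mul_left (S.com_cj hb hw.1)
  have h3 := S.card_Iv (g •ᶜ A ⊓ S.H0)
  rw [inf_of_le_left h2] at h3
  generalize S.Iv (g •ᶜ A ⊓ S.H0) = I at hc h3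
  have h4 := I.card_mul_index
  rw [card_V, show Nat.card I = _ from h3] at h4
  have h5 : I.index ≤ 2 := by nlinarith
  refine hn (mul_mem (S.αH0 v) (S.cen' hu (fun e he => ?_) ▸ one_mem _))
  let J := I ⊓ I.comap (σ e).toLinearMap.toAddMonoidHom
  have h6 : J.index ≤ 2 * 2 := AddSubgroup.index_inf_le.trans (Nat.mul_le_mul h5 (by
    rwa [AddSubgroup.index_comap_of_surjective _ (σ e).surjective]))
  have h7 := J.card_mul_index
  rw [card_V] at h7
  have h8 : Nat.card J ≤ (Fx σ {θ e * e}).ncard := Set.ncard_le_ncard (show (J : Set V) ⊆ _ from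
    fun w hw x hx => S.inj (by
      have c : Commute u (α (σ e w)) := hc _ hw.2
      rw [hx, σ_mul, ← S.act, ← hθ, mul_inv_rev, mul_inv_rev, inv_inv, mul_assoc _ u⁻¹, c.inv_left.eq,
        show ∀ z, u * ι e * (z * u⁻¹) * (u * ((ι e)⁻¹ * u⁻¹)) = u * (ι e * z * (ι e)⁻¹) * u⁻¹ from
          fun z => by group]
      erw [S.act, ← σ_mul, S.U.R.fs.sq he, σ_one, (hc w hw.1).eq, mul_inv_cancel_right])) (Set.toFinite _)
  have := eq_of_card S.U S.σinj (S.gp.aut_mem S.ch θ he) he (by nlinarith)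
  rw [commute_iff_eq, ← mul_inv_eq_iff_eq_mul, hθ, this]

theorem le_H {T : Subgroup X} (hT : IsPGroup 2 T) (h : A ≤ T) : T ≤ normalizer (A : Set X) := by
  by_contra hn
  obtain ⟨n, h1, h2⟩ := SetLike.exists_of_lt (MSS.lt_inf_normalizer_of_lt (P := T ⊓ normalizer (A : Set X)) hT
    (inf_lt_left.2 hn))
  exact h2 ⟨h1.1, S.weak ((MSS.cj_le_of_mem_normalizer (le_inf h le_normalizer) h1.2).trans inf_le_right)⟩

end St

end CL.S3E
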