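import Cfsg.Agent.SPOR.S3E.Dat

/-!
Fixed spaces and elements of order three in the module of degree twenty of `U₆(2)`.
-/

set_option autoImplicit false
set_option maxRecDepth 100000
set_option exponentiation.threshold 512

namespace CL.S3E

open CL.E6U CL.LE CL.TTU CL.TTU.U6 CL.FiRec CL.PM CL.FiA CL.F2M
open CL.K hiding lall lall_iff lany lany_iff

variable {G : Type*} [Group G]

/-- the representations -/
abbrev Rp (G : Type*) [Group G] := G →* (V ≃ₗ[ZMod 2] V)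

/-- the common fixed vectors -/
def Fx (σ : Rp G) (S : Set G) : Set V := {v | ∀ g ∈ S, σ g v = v}

/-- the class of `v` in the coset of `k` is fixed by an element of order three -/
def Gd (σ : Rp G) (k : G) (v : V) : Prop :=
  ∃ y x, y ≠ 1 ∧ y ^ 3 = 1 ∧ Commute y k ∧ σ y v + v = σ k x + x

/-- a product of two commuting transvections -/
def B2 (E : Set G) (k : G) : Prop := ∃ a b, Fr E [a, b] ∧ k = a * b

/-- the standard model -/
structure Md (E : Set G) (t : ℕ → G) (ϱ : Rp G) : Prop where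
  U : UX E t
  cd : ∀ s < 693, Cd ϱ (t s) (MT s)

theorem vd_zero : vd 0 = 0 := vdec_zero

theorem card_V : Nat.card V = 2 ^ 20 := by simp [V]

theorem exists_sm {c m : ℕ} (h : sm c m = true) (w : V) : ∃ x < 2 ^ m, M c w = vd x := by
  obtain ⟨v, -, rfl⟩ := exists_vd w
  exact ⟨_, ac_lt' h v, M_vd _ _⟩

theorem M_zero (w : V) : M 0 w = 0 := by
  have := M_xor 0 0 w
  rwa [v2_add_self] at this

theorem M_xorLt {F : ℕ → ℕ} {w : V} {n : ℕ} (h : ∀ j < n, M (F j) w = 0) : M (xorLt F n) w = 0 := by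
  induction n with
  | zero => exact M_zero w
  | succ n ih => rw [xorLt_succ, M_xor, h n n.lt_succ_self, ih fun j hj => h j (by omega), add_zero]

theorem ncard_up {W : Set V} {S Φ m : ℕ} (hΦ : sm Φ m = true) (h : ∀ v ∈ W, ∃ w, v = M S (M Φ w)) :
    W.ncard ≤ 2 ^ m := by
  have : W ⊆ (fun c => M S (vd c)) '' (Finset.range (2 ^ m) : Set ℕ) := fun v hv => by
    obtain ⟨w, rfl⟩ := h v hv
    obtain ⟨x, hx, e⟩ := exists_sm hΦ w
    exact ⟨x, by simpa using hx, by rw [e]⟩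
  refine (Set.ncard_le_ncard this (Set.toFinite _)).trans ((Set.ncard_image_le (Set.toFinite _)).trans ?_)
  rw [Set.ncard_coe_finset, Finset.card_range]

theorem ncard_low {f : V →ₗ[ZMod 2] V} {S Φ r : ℕ} (hΦ : sm Φ r = true) (h : ∀ w, f w = M S (M Φ w)) :
    2 ^ 20 ≤ {v | f v = 0}.ncard * 2 ^ r := by
  have h1 := f.toAddMonoidHom.ker.card_mul_index
  rw [AddSubgroup.index_ker, card_V] at h1
  rw [← h1]
  exact Nat.mul_le_mul (le_of_eq rfl) (ncard_up (W := f.toAddMonoidHom.range) hΦ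
    fun v ⟨w, e⟩ => ⟨w, e.symm.trans (h w)⟩)

theorem ncard_fix {W : Set V} (hW : ∀ v ∈ W, ∀ w ∈ W, v + w ∈ W) (f : V ≃ₗ[ZMod 2] V) {S s : ℕ}
    (h1 : ∀ c < 2 ^ s, vd (ac S c) ∈ W) (h2 : ∀ c < 2 ^ s, c ≠ 0 → f (vd (ac S c)) ≠ vd (ac S c)) :
    {v | v ∈ W ∧ f v = v}.ncard * 2 ^ s ≤ W.ncard := by
  have := Nat.card_le_card_of_injective (α := {v | v ∈ W ∧ f v = v} × Fin (2 ^ s)) (β := W)
    (fun p => ⟨p.1.1 + vd (ac S p.2), hW _ p.1.2.1 _ (h1 _ p.2.2)⟩) fun p q e => by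
      have e : p.1.1 + vd (ac S p.2) = q.1.1 + vd (ac S q.2) := congrArg Subtype.val e
      have e1 : vd (ac S (p.2.1 ^^^ q.2.1)) = p.1.1 + q.1.1 := by
        rw [← M_vd, vd_xor, map_add, M_vd, M_vd]
        linear_combination (norm := abel) e - v2_add_self p.1.1 + v2_add_self (vd (ac S q.2))
      have e2 : p.2 = q.2 := Fin.ext (Nat.eq_of_xor_eq_zero (by_contra fun hn =>
        h2 _ (Nat.xor_lt_two_pow p.2.2 q.2.2) hn (by rw [e1, map_add, p.1.2.2, q.1.2.2])))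
      rw [e2] at e
      exact Prod.ext (Subtype.ext (add_right_cancel e)) e2
  simpa using this

theorem fx_add (σ : Rp G) (S : Set G) : ∀ v ∈ Fx σ S, ∀ w ∈ Fx σ S, v + w ∈ Fx σ S :=
  fun v hv w hw g hg => by rw [map_add, hv g hg, hw g hg]

theorem fx_insert (σ : Rp G) (S : Set G) (g : G) :
    Fx σ (insert g S) = {v | v ∈ Fx σ S ∧ σ g v = v} := by
  ext v; simp [Fx, and_comm]

theorem fx_one (σ : Rp G) (g : G) : Fx σ {g} = {v | σ g v = v} := by ext v; simp [Fx]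

theorem fx_mono (σ : Rp G) {S T : Set G} (h : S ⊆ T) : (Fx σ T).ncard ≤ (Fx σ S).ncard :=
  Set.ncard_le_ncard (fun _ hv g hg => hv g (h hg)) (Set.toFinite _)

theorem ncard_fx_cjR (σ : Rp G) (β : V ≃ₗ[ZMod 2] V) (S : Set G) :
    (Fx (cjR σ β) S).ncard = (Fx σ S).ncard := by
  rw [← Set.ncard_image_of_injective _ β.injective]
  congr 1
  ext v
  obtain ⟨w, rfl⟩ := β.surjective v
  simp [Fx, cjR_apply, LinearEquiv.symm_apply_eq]

theorem Gd.of_cjR {σ : Rp G} {β : V ≃ₗ[ZMod 2] V} {k : G} {v : V} (h : Gd (cjR σ β) k v) :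
    Gd σ k (β v) := by
  obtain ⟨y, x, h1, h2, h3, h4⟩ := h
  exact ⟨y, β x, h1, h2, h3, by simpa [cjR_apply] using congrArg β h4⟩

theorem exists_model {E : Set G} {t : ℕ → G} (U : UX E t) {σ : Rp G} (hi : Function.Injective σ) :
    ∃ β : V ≃ₗ[ZMod 2] V, Md E t (cjR σ β) :=
  let ⟨β, h⟩ := U.exists_md hi (by simp [V])
  ⟨β, U, h⟩

theorem gw_spec {E : Set G} {t : ℕ → G} (U : UX E t) {k w : List ℕ} (h : gw k w = true) :
    okW w = true ∧ wd t w ≠ 1 ∧ wd t w ^ 3 = 1 ∧ Commute (wd t w) (wd t k) := by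
  simp only [gw, an_iff, no_iff] at h
  have h1 : ∀ s ∈ w, s < 693 := fun s hs => okW_iff.1 (an_iff.1 h.2.2).1 s (by simp [hs])
  refine ⟨okW_iff.2 h1, fun e => h.2.1 ((cenW_iff U.R h1).2 fun x _ => e ▸ Commute.one_left x),
    by rw [← wd_rp, U.rel h.1], ?_⟩
  have := U.eqv h.2.2
  rwa [wd_append, wd_append] at this

namespace Md

variable {E : Set G} {t : ℕ → G} {ϱ : Rp G} (D : Md E t ϱ)
include D

theorem cw {w : List ℕ} (h : okW w = true) (v : V) : ϱ (wd t w) v = M (wm MT w) v :=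
  cd_wm (fun s hs => D.cd s (okW_iff.1 h s hs)) v

theorem cv {w : List ℕ} (h : okW w = true) (c : ℕ) : ϱ (wd t w) (vd c) = vd (wa MT w c) := by
  rw [D.cw h, M_wm]

theorem nw {w : List ℕ} (h : okW w = true) (v : V) : M (nw1 w) v = ϱ (wd t w) v + v := by
  rw [nw1, M_xor, M_one, D.cw h]

theorem fx_of {w : List ℕ} (h : okW w = true) {z : ℕ} (e : fx w z = true) :
    ϱ (wd t w) (vd z) = vd z := by rw [D.cv h, beq_iff.1 e]

theorem chkS_spec {ws : List (List ℕ)} {g : List ℕ} {s S : ℕ} (h : chkS ws g s S = true)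
    (hg : okW g = true) (hw : ∀ w ∈ ws, okW w = true) {T : Set G} (hT : ∀ x ∈ T, ∃ w ∈ ws, x = wd t w) :
    (Fx ϱ (insert (wd t g) T)).ncard * 2 ^ s ≤ (Fx ϱ T).ncard := by
  simp only [chkS, allLt_iff, force_eq, an_iff, lall_iff, ou_iff, no_iff, beq_iff] at h
  rw [fx_insert]
  refine ncard_fix (S := S) (fx_add ϱ T) _ (fun c hc x hx => ?_) fun c hc h0 e => ?_
  · obtain ⟨w, hw', rfl⟩ := hT x hx
    exact D.fx_of (hw w hw') ((h c hc).1 w hw')
  · rw [D.cv hg] at e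
    exact (h c hc).2.resolve_left h0 (beq_iff.2 (vd_inj (wa_lt _ _ (ac_lt _ _)) (ac_lt _ _) e))

theorem chkC_spec {k : List ℕ} {S Φ U m : ℕ} {T : ℕ → List ℕ} (h : chkC k S Φ U m T = true) {v : V}
    (hv : ϱ (wd t k) v = v) : Gd ϱ (wd t k) v := by
  simp only [chkC, allLt_iff, force_eq, an_iff, beq_iff] at h
  obtain ⟨hk, hΦ, e, h⟩ := h
  obtain ⟨c, hc, ec⟩ := exists_sm hΦ v
  obtain ⟨h0, h1, h2, h3⟩ := gw_spec D.U (h c hc).1
  have e1 := M_one v
  rw [← e, M_xor, M_xor, M_mu, M_mu, M_mu, D.nw hk v, hv, v2_add_self, map_zero, add_zero, ec, M_vd,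
    D.nw hk] at e1
  have e2 := congrArg vd (h c hc).2
  rw [← M_vd, D.nw hk, vd_xor, ← D.cv h0] at e2
  refine ⟨_, vd (ac U (wa MT (T c) (ac S c) ^^^ ac S c)) + (ϱ (wd t (T c)) (M U v) + M U v), h1, h2, h3, ?_⟩
  generalize M U v = u at e1 ⊢
  rw [← e1]
  simp only [map_add, ← σ_mul, h3.eq]
  linear_combination (norm := abel) -e2

theorem gd_one (v : V) : Gd ϱ 1 v := by
  obtain ⟨s1, s2, s3, e1, e2, ok, e3⟩ := chk_1
  have k : ∀ w : V, M PB w ≠ 0 → M PB w = vd 1 := fun w hw => by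
    obtain ⟨x, hx, e⟩ := exists_sm s1 w
    interval_cases x
    exacts [absurd (e.trans vd_zero) hw, e]
  have cj : ∀ g w, Gd ϱ 1 (ϱ g w) → Gd ϱ 1 w := fun g w ⟨y, x, h1, h2, _, h4⟩ =>
    ⟨g⁻¹ * y * g⁻¹⁻¹, 0, fun e => h1 (by rw [← cj_inv_cj g y, e]; simp), by rw [conj_pow, h2]; simp,
      Commute.one_right _, by
        rw [σ_one, v2_add_self, v2_add_eq_zero] at h4
        rw [inv_inv, σ_mul, σ_mul, h4, ← σ_mul, inv_mul_cancel, σ_one, σ_one, v2_add_self, add_zero]⟩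
  have k3 : ∀ c < 1024, Gd ϱ 1 (vd (c ^^^ 524288)) := fun c hc => by
    have := an_iff.1 (allLt_iff.1 chk_3 c hc)
    obtain ⟨h0, h1, h2, -⟩ := gw_spec D.U this.1
    exact ⟨_, 0, h1, h2, Commute.one_right _, by rw [D.fx_of h0 this.2, σ_one, v2_add_self, add_zero]⟩
  by_cases h : ∀ j < 20, M PB (ϱ (wd t (W20 j)) v) = 0
  · have := M_xorLt (F := fun j => mu (US j) (mu PB (wm MT (W20 j)))) (w := v) fun j hj => by
      rw [M_mu, M_mu, ← D.cw (allLt_iff.1 ok j hj), h j hj, map_zero]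
    rw [e2, M_one] at this
    obtain ⟨y, -, h1, h2, h3, -⟩ := k3 0 (by norm_num)
    exact ⟨y, 0, h1, h2, h3, by rw [this, map_zero, map_zero]⟩
  push Not at h
  obtain ⟨j, -, h⟩ := h
  refine cj _ _ (?_ : Gd ϱ 1 (ϱ (wd t (W20 j)) v))
  generalize ϱ (wd t (W20 j)) v = u at h
  obtain ⟨y, hy, ey⟩ := exists_sm s2 u
  have c := allLt_iff.1 chk_2 y hy
  simp only [an_iff, force_eq, beq_iff] at c
  refine cj (wd t (wy y)) _ ?_
  obtain ⟨x, hx, ex⟩ := exists_sm s3 (ϱ (wd t (wy y)) u)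
  have := M_one (ϱ (wd t (wy y)) u)
  rw [← e1, M_xor, M_xor, ex, M_mu, M_mu, D.cw c.1, ← M_mu PY, ← M_mu PB, c.2.2.1, c.2.2.2, M_xor, M_mu,
    k u h, ey, M_vd, M_vd, c.2.1, v2_add_self, map_zero, zero_add, e3, ← vd_xor, ← D.cw c.1] at this
  exact this ▸ k3 x hx

omit D in
theorem wd05 : wd t [0, 5] = t 0 * t 5 := by simp [wd]

theorem card_B : (Fx ϱ {t 0 * t 5}).ncard = 2 ^ 12 := by
  obtain ⟨s1, e1, -, s2, e2, -⟩ := chk_B
  rw [fx_one, ← wd05]
  refine le_antisymm (ncard_up (S := S12) s1 fun v hv => ⟨v, ?_⟩) ?_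
  · have := M_one v
    rw [← e1, M_xor, M_mu, M_mu, D.nw (by decide) v, hv, v2_add_self, map_zero, add_zero] at this
    exact this.symm
  · have := ncard_low (f := M (nw1 [0, 5])) s2 fun w => by rw [e2, M_mu]
    simp only [D.nw (w := [0, 5]) (by decide), v2_add_eq_zero] at this
    omega

theorem span_B (I : AddSubgroup V) (h : ∀ v, ϱ (t 0 * t 5) v = v → Gd ϱ (t 0 * t 5) v → v ∈ I) {v : V}
    (hv : ϱ (t 0 * t 5) v = v) : v ∈ I := by
  obtain ⟨-, e1, c, -⟩ := chk_B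
  rw [← wd05] at h hv
  have := M_one v
  rw [← e1, M_xor, M_mu, M_mu, D.nw (by decide) v, hv, v2_add_self, map_zero, add_zero] at this
  have k := ext_vd (f := (AddSubgroup.toZModSubmodule 2 I).mkQ ∘ₗ M S12) (g := 0) (fun j hj => by
    have c := allLt_iff.1 c j hj
    simp only [an_iff, force_eq] at c
    obtain ⟨h0, h1, h2, h3⟩ := gw_spec D.U c.1
    rw [LinearMap.comp_apply, M_vd, LinearMap.zero_apply, Submodule.mkQ_apply, Submodule.Quotient.mk_eq_zero]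
    exact h _ (D.fx_of (by decide) c.2.1) ⟨_, 0, h1, h2, h3, by
      rw [D.fx_of h0 c.2.2, map_zero, v2_add_self, add_zero]⟩) (M P12 v)
  rwa [LinearMap.comp_apply, this, LinearMap.zero_apply, Submodule.mkQ_apply,
    Submodule.Quotient.mk_eq_zero] at k

theorem card_3 : (Fx ϱ {t 0 * t 32}).ncard ≤ 2 ^ 17 := by
  have := D.chkS_spec chk_B.2.2.2.2.2 (by decide) (by simp) (T := ∅) (by simp)
  have h := Set.ncard_le_card (Fx ϱ ∅)
  rw [card_V] at h
  rw [show insert (wd t [0, 32]) (∅ : Set G) = {t 0 * t 32} by simp [wd]] at this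
  omega

theorem card_F {φ : V ≃ₗ[ZMod 2] V} (h : ∀ s < 693, ∀ v, φ (ϱ (t s) v) = ϱ (t (kp s)) (φ v)) :
    2 ^ 14 ≤ {v | φ v = v}.ncard := by
  obtain ⟨c1, e1, c2, e2, e3, c3, s1, s2, e4⟩ := chk_F
  have kk : ∀ s < 693, kp s < 693 ∧ kp (kp s) = s := fun s hs => by
    simpa only [an_iff, blt_iff, beq_iff] using allLt_iff.1 chk_kp2 s hs
  have ss : ∀ v, M Sg (M Sg v) = v := fun v => by rw [← M_mu, e1, M_one]
  have k1 : ∀ s < 693, ∀ v, M Sg (φ (ϱ (t s) v)) = ϱ (t s) (M Sg (φ v)) := fun s hs v => by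
    rw [h s hs, D.cd _ (kk s hs).1, ← M_mu, beq_iff.1 (allLt_iff.1 c1 _ (kk s hs).1), (kk s hs).2, M_mu,
      D.cd s hs]
  have k2 : ∀ w, okW w = true → ∀ v, M Sg (φ (ϱ (wd t w) v)) = ϱ (wd t w) (M Sg (φ v)) := fun w hw v => by
    induction w with
    | nil => rw [wd_nil, σ_one, σ_one]
    | cons s w ih => rw [wd_cons, σ_mul, σ_mul, k1 s (okW_iff.1 hw s (by simp)), ih (an_iff.1 hw).2]
  have ok : ∀ j < 9, okW [P9 j] = true := fun j hj => an_iff.2 ⟨allLt_iff.1 c3 j hj, rfl⟩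
  have f1 : ∀ j < 9, ϱ (wd t [P9 j]) (vd 1) = vd 1 := fun j hj =>
    D.fx_of (ok j hj) (allLt_iff.1 (by decide +kernel : allLt (fun j => fx [P9 j] 1) 9 = true) j hj)
  have k3 : M Sg (φ (vd 1)) = vd 1 := by
    have := M_one (M Sg (φ (vd 1)))
    rw [← e3, M_xor, M_xorLt fun j hj => by rw [M_mu, D.nw (ok j hj), ← k2 _ (ok j hj), f1 j hj,
      v2_add_self, map_zero], add_zero] at this
    obtain ⟨x, hx, e⟩ := exists_sm s1 (M Sg (φ (vd 1)))
    rw [this] at e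
    interval_cases x
    · have := congrArg (M Sg) e
      rw [ss, vd_zero, map_zero, map_eq_zero_iff _ φ.injective, ← vd_zero] at this
      exact absurd (vd_inj (by norm_num) (by norm_num) this) one_ne_zero
    · exact e
  have k4 : ∀ v, φ v = M Sg v := fun v => by
    have := ext_vd (f := M Sg ∘ₗ φ.toLinearMap ∘ₗ M Bm) (g := M Bm) fun j hj => by
      have c := an_iff.1 (allLt_iff.1 c2 j hj)
      simp only [LinearMap.comp_apply, LinearEquiv.coe_coe]
      rw [M_vd, beq_iff.1 c.2, ← D.cv c.1, k2 _ c.1, k3]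
    obtain ⟨u, rfl⟩ : ∃ u, v = M Bm u := ⟨_, by rw [← M_mu, e2, M_one]⟩
    have := this u
    simp only [LinearMap.comp_apply, LinearEquiv.coe_coe] at this
    rw [← ss (φ _), this]
  have := ncard_low (f := M (Sg ^^^ I20)) s2 fun w => by rw [e4, M_mu]
  simp only [M_xor, M_one, v2_add_eq_zero, ← k4] at this
  omega

end Md

section
variable {E : Set G} {t : ℕ → G} (U : UX E t) {σ : Rp G} (hi : Function.Injective σ)
include U hi

theorem card_B2 {k : G} (h : B2 E k) : (Fx σ {k}).ncard = 2 ^ 12 := by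
  obtain ⟨a, b, h, rfl⟩ := h
  obtain ⟨f, R, rfl, rfl⟩ := T21.exists_pair ⟨t, U.R⟩ h
  obtain ⟨β, D⟩ := exists_model (U.of_real R) hi
  rw [← ncard_fx_cjR σ β, D.card_B]

theorem span_B2 {k : G} (h : B2 E k) (I : AddSubgroup V) (hI : ∀ v, σ k v = v → Gd σ k v → v ∈ I)
    {v : V} (hv : σ k v = v) : v ∈ I := by
  obtain ⟨a, b, h, rfl⟩ := h
  obtain ⟨f, R, rfl, rfl⟩ := T21.exists_pair ⟨t, U.R⟩ h
  obtain ⟨β, D⟩ := exists_model (U.of_real R) hi
  obtain ⟨w, rfl⟩ := β.surjective v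
  exact D.span_B (I.comap β.toLinearMap.toAddMonoidHom) (fun u hu h => hI _
    (β.symm_apply_eq.1 hu) h.of_cjR) (β.symm_apply_eq.2 hv)

theorem eq_of_card {a b : G} (ha : a ∈ E) (hb : b ∈ E) (h : 2 ^ 18 ≤ (Fx σ {a * b}).ncard) : a = b := by
  by_contra hn
  by_cases hc : Commute a b
  · rw [card_B2 U hi ⟨a, b, fr_two.2 ⟨ha, hb, Ne.symm hn, hc⟩, rfl⟩] at h
    omega
  obtain ⟨f, j, rfl, rfl⟩ := frame2 U.R ha ⟨hb, hc⟩
  obtain ⟨β, D⟩ := exists_model (U.of_real (U.R.of_cj j subset_rfl)) hi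
  have := D.card_3
  rw [ncard_fx_cjR] at this
  omega

theorem card_out {φ : V ≃ₗ[ZMod 2] V} (h : ∀ s < 693, ∀ v, φ (σ (t s) v) = σ (t (kp s)) (φ v)) :
    2 ^ 14 ≤ {v | φ v = v}.ncard := by
  obtain ⟨β, D⟩ := exists_model U hi
  have := D.card_F (φ := β.trans (φ.trans β.symm)) fun s hs v => by simp [cjR_apply, h s hs]
  rw [← Set.ncard_image_of_injective _ β.injective] at this
  refine this.trans (Set.ncard_le_ncard ?_ (Set.toFinite _))
  rintro _ ⟨v, hv, rfl⟩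
  exact β.symm_apply_eq.1 hv

theorem gd_or (hiv : ∀ k : G, k * k = 1 → ∃ l, Fr E l ∧ l.length ≤ 3 ∧ l.prod = k) {k : G}
    (hk : k * k = 1) : B2 E k ∨ ∀ v, σ k v = v → Gd σ k v := by
  have I : Is21 E := ⟨t, U.R⟩
  obtain ⟨l, hl, h3, rfl⟩ := hiv k hk
  have k : ∀ f, Real 693 op E f → ∀ g, (∀ ϱ, Md E f ϱ → ∀ v, ϱ g v = v → Gd ϱ g v) →
      ∀ v, σ g v = v → Gd σ g v := fun f R g h v hv => by
    obtain ⟨β, D⟩ := exists_model (U.of_real R) hi
    obtain ⟨w, rfl⟩ := β.surjective v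
    exact (h _ D w (β.symm_apply_eq.2 hv)).of_cjR
  match l, hl, h3 with
  | [], _, _ => exact Or.inr (k t U.R _ fun ϱ D v _ => D.gd_one v)
  | [a], hl, _ =>
    obtain ⟨f, j, rfl⟩ := frame0 U.R (hl.mem a (by simp))
    exact Or.inr (k f (U.R.of_cj j subset_rfl) _ fun ϱ D v hv => D.chkC_spec chk_A hv)
  | [a, b], hl, _ => exact Or.inl ⟨a, b, hl, by simp⟩
  | [a, b, c], hl, _ =>
    by_cases hc : Col E a b c
    · obtain ⟨u, v, w, h1, h2, h3⟩ := T21.line I (hl.sublist (l' := [a, b]) (by simp))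
      have e : a * (b * (u * (v * w))) = 1 := by
        simpa using h2.eq U.gen (by
          rw [eq_bot_iff]; exact fun g hg => U.cen g fun x _ => (Subgroup.mem_center_iff.1 hg x).symm)
      have q : ∀ x y z, Fr E [x, y, z] → a * (b * (x * (y * z))) = 1 → B2 E [a, b, x].prod :=
        fun x y z hf e => ⟨z, y, (hf.tail.perm (List.Perm.swap _ _ _)), by
          rw [← U.R.fs.inv (hf.mem y (by simp)), ← U.R.fs.inv (hf.mem z (by simp)), ← mul_inv_rev,
            eq_inv_iff_mul_eq_one]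
          simpa [mul_assoc] using e⟩
      have h4 := h1.tail.tail
      have cuv := h4.com u (by simp) v (by simp)
      have cw := (h4.com u (by simp) w (by simp)).mul_left (h4.com v (by simp) w (by simp))
      have nd := hl.nd
      rcases (by simpa using (h3 c (hl.mem c (by simp))).1 hc : c = a ∨ c = b ∨ c = u ∨ c = v ∨ c = w)
        with rfl | rfl | rfl | rfl | rfl
      · simp at nd
      · simp at nd
      · exact Or.inl (q _ _ _ h4 e)
      · exact Or.inl (q _ u w (h4.perm (List.Perm.swap _ _ _)) (by rw [← cuv.left_comm, e]))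
      · exact Or.inl (q _ u v (h4.perm (List.perm_append_comm (l₁ := [u, v]) (l₂ := [c])))
          (by rw [← cw.eq, mul_assoc, e]))
    · obtain ⟨f, R, rfl, rfl, rfl⟩ := T21.exists_tri I hl hc
      exact Or.inr (k f R _ fun ϱ D v hv => D.chkC_spec chk_C hv)

end

end CL.S3E
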