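import Cfsg.Agent.SPOR.S3E.Lin
import Cfsg.Agent.SPOR.S3E.StarD

/-!
Subgroups of `U₆(2)` all of whose involutions are products of two transvections have small
fixed spaces.
-/

set_option autoImplicit false
set_option maxRecDepth 100000
set_option exponentiation.threshold 512

namespace CL.S3E

open CL.E6U CL.LE CL.TTU CL.TTU.U6 CL.FiRec CL.PM CL.FiA CL.F2M
open CL.K hiding lall lall_iff lany lany_iff

variable {G : Type*} [Group G] {E : Set G} {t : ℕ → G}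

/-- all nontrivial elements are products of two commuting transvections -/
def Pure (E : Set G) (D : Subgroup G) : Prop := ∀ g ∈ D, g ≠ 1 → B2 E g

theorem B2.sq (hE : FS E) {k : G} (h : B2 E k) : k * k = 1 := by
  obtain ⟨a, b, h, rfl⟩ := h
  rw [(h.com a (by simp) b (by simp)).symm.mul_mul_mul_comm, hE.sq (h.mem a (by simp)),
    hE.sq (h.mem b (by simp)), mul_one]

theorem Pure.sq (hE : FS E) {D : Subgroup G} (h : Pure E D) {g : G} (hg : g ∈ D) : g * g = 1 := by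
  by_cases e : g = 1
  exacts [by simp [e], (h g hg e).sq hE]

theorem Pure.com (hE : FS E) {D : Subgroup G} (h : Pure E D) {g k : G} (hg : g ∈ D) (hk : k ∈ D) :
    Commute g k := by
  have := inv_eq_of_mul_eq_one_right (h.sq hE (D.mul_mem hg hk))
  rw [mul_inv_rev, inv_eq_of_mul_eq_one_right (h.sq hE hg), inv_eq_of_mul_eq_one_right (h.sq hE hk)] at this
  exact this.symm

theorem wd_two (t : ℕ → G) (i j : ℕ) : wd t [i, j] = t i * t j := by simp [wd]

/-- the four-group -/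
def Z4 (k a : G) : Set G := {1, k⁻¹, a⁻¹, (k * a)⁻¹}

theorem ncard_Z4 (k a : G) : (Z4 k a).ncard ≤ 4 :=
  (Set.ncard_insert_le _ _).trans (Nat.succ_le_succ ((Set.ncard_insert_le _ _).trans (Nat.succ_le_succ
    ((Set.ncard_insert_le _ _).trans (by simp)))))

theorem not_mem_Z4 {k a g : G} : g ∉ Z4 k a ↔ g ≠ 1 ∧ k * g ≠ 1 ∧ a * g ≠ 1 ∧ k * a * g ≠ 1 := by
  simp only [Z4, Set.mem_insert_iff, Set.mem_singleton_iff, not_or, ne_eq, mul_eq_one_iff_inv_eq,
    eq_comm (a := g)]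

theorem card_le_four [Finite G] {D : Subgroup G} {k a : G} (h : ∀ g ∈ D, g ∈ Z4 k a) : Nat.card D ≤ 4 :=
  (Set.ncard_le_ncard (show (D : Set G) ⊆ Z4 k a from h) (Set.toFinite _)).trans (ncard_Z4 k a)

theorem card_le_sixteen [Finite G] {D : Subgroup G} {k a b c : G} (h : ∀ d ∈ D,
    d ∈ Z4 k a ∨ b * d ∈ Z4 k a ∨ c * d ∈ Z4 k a ∨ b * c * d ∈ Z4 k a) : Nat.card D ≤ 16 := by
  have k1 : ∀ x, ((x⁻¹ * ·) '' Z4 k a).ncard ≤ 4 := fun x =>
    (Set.ncard_image_le (Set.toFinite _)).trans (ncard_Z4 k a)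
  have : (D : Set G) ⊆ Z4 k a ∪ ((b⁻¹ * ·) '' Z4 k a ∪ ((c⁻¹ * ·) '' Z4 k a ∪ ((b * c)⁻¹ * ·) '' Z4 k a)) :=
    fun d hd => (h d hd).imp id fun h => h.imp (fun h => ⟨_, h, by simp⟩) fun h =>
      h.imp (fun h => ⟨_, h, by simp⟩) fun h => ⟨_, h, by simp [mul_assoc]⟩
  have h1 := Set.ncard_le_ncard this (Set.toFinite _)
  have h2 := h1.trans ((Set.ncard_union_le _ _).trans (add_le_add (ncard_Z4 k a) ((Set.ncard_union_le _ _).trans
    (add_le_add (k1 b) ((Set.ncard_union_le _ _).trans (add_le_add (k1 c) (k1 _)))))))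
  exact h2

theorem ka_spec (R : Real 693 op E t) {i : ℕ} (hi : i < 693) :
    ka i < 693 ∧ t (ka i) = t 0 * t 5 * t i * (t 0 * t 5)⁻¹ := by
  rw [← wd_two]; exact R.act_spec (by decide) hi

theorem exists_gm (U : UX E t) {g : G} (h : B2 E g) (hc : Commute (t 0 * t 5) g) :
    ∃ m < 802, g = wd t (gm m) := by
  obtain ⟨a, b, h, rfl⟩ := h
  obtain ⟨ha, hb, hab, c⟩ := fr_two.1 h
  obtain ⟨i, hi, rfl⟩ := U.R.surj ha
  obtain ⟨j, hj, rfl⟩ := U.R.surj hb
  obtain ⟨hi', ei⟩ := ka_spec U.R hi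
  obtain ⟨hj', ej⟩ := ka_spec U.R hj
  have e : t (ka i) * t (ka j) = t i * t j := by rw [ei, ej, conj_mul, hc.eq, mul_inv_cancel_right]
  have c' : Commute (t (ka i)) (t (ka j)) := by rw [ei, ej]; exact c.conj _
  have k : en i j = true := by
    have ch := allLt_iff.1 chk_en i hi
    rw [force_eq] at ch
    by_cases e1 : ka i = i
    · rw [beq_iff.2 e1, cond_true] at ch
      rw [e1] at e
      exact imp_iff.1 (allLt_iff.1 ch j hj) (an_iff.2 ⟨(U.R.commute_iff hi hj).1 c, an_iff.2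
        ⟨beq_iff.2 (U.R.inj hj' hj (mul_left_cancel e)), no_iff.2 fun e => hab (by rw [beq_iff.1 e])⟩⟩)
    rw [show Nat.beq (ka i) i = false from Bool.eq_false_iff.2 fun e => e1 (beq_iff.1 e), cond_false] at ch
    have e2 : ka i = j := by
      by_contra e2
      have c1 := h.com_of_com_prod U.R.fs (by simp) (U.R.mem hi') (by
        simpa [← e] using (Commute.refl _).mul_right c')
      have c2 := h.com_of_com_prod U.R.fs (by simp) (U.R.mem hj') (by
        simpa [← e] using c'.symm.mul_right (Commute.refl _))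
      have n1 : t (ka i) ≠ t i := fun e => e1 (U.R.inj hi' hi e)
      have n2 : t (ka i) ≠ t j := fun e => e2 (U.R.inj hi' hj e)
      have n3 : t (ka j) ≠ t i := fun q => n2 (by rw [q, c.eq] at e; exact mul_right_cancel e)
      have n4 : t (ka j) ≠ t j := fun q => n1 (by rw [q] at e; exact mul_right_cancel e)
      have n5 : t (ka j) ≠ t (ka i) := fun q => hab (by rw [ei, ej] at q; simpa using q)
      have := T21.mw ⟨t, U.R⟩ [t i, t j, t (ka i), t (ka j)] (fr_cons.2 ⟨ha, fr_three.2 ⟨⟨hb, hab, c⟩,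
        ⟨⟨U.R.mem hi', n1, (c1 _ (by simp)).symm⟩, n2, (c1 _ (by simp)).symm⟩,
        ⟨⟨U.R.mem hj', n3, (c2 _ (by simp)).symm⟩, n4, (c2 _ (by simp)).symm⟩, n5, c'⟩⟩) (by simp) (by
          rw [show [t i, t j, t (ka i), t (ka j)].prod = 1 by
            simpa [e, mul_assoc] using B2.sq U.R.fs ⟨_, _, h, rfl⟩]
          exact Eqv.refl _ _)
      simp at this
    rw [e2] at ch
    exact imp_iff.1 ch ((U.R.commute_iff hi hj).1 c)
  simp only [en, force_eq, an_iff, ou_iff, blt_iff, beq_iff] at k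
  refine ⟨_, k.1, ?_⟩
  rw [gm, wd_two]
  rcases k.2 with ⟨e1, e2⟩ | ⟨e1, e2⟩ <;> rw [e1, e2]
  exact c.eq

theorem gm_spec {m : ℕ} (hm : m < 802) :
    okW (gm m) = true ∧ wa MT (gm m) 177298 = cv m ∧ idx (cv m) = m := by
  simpa only [an_iff, beq_iff] using allLt_iff.1 chk_gm m hm

theorem ok05 {w : List ℕ} (h : okW w = true) : okW ([0, 5] ++ w) = true :=
  okW_iff.2 fun s hs => (List.mem_append.1 hs).elim (by simp; omega) (okW_iff.1 h s)

namespace Md

variable {ϱ : Rp G} (Q : Md E t ϱ) {D : Subgroup G} (hP : Pure E D) (hk : t 0 * t 5 ∈ D)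
include Q hP hk

theorem vl_of {w : List ℕ} (hw : okW w = true) (hg : wd t w ∈ D) (h1 : wd t w ≠ 1) :
    vl (wa MT w 177298) = true ∧ idx (wa MT w 177298) < 802 ∧
      wd t w = wd t (gm (idx (wa MT w 177298))) := by
  obtain ⟨m, hm, e⟩ := exists_gm Q.U (hP _ hg h1) (hP.com Q.U.R.fs hk hg)
  obtain ⟨h2, h3, h4⟩ := gm_spec hm
  have : wa MT w 177298 = S3E.cv m := h3 ▸ vd_inj (wa_lt _ _ (by norm_num)) (wa_lt _ _ (by norm_num))
    (by rw [← Q.cv hw, ← Q.cv h2, e])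
  rw [vl, force_eq, force_eq, this, h4]
  exact ⟨an_iff.2 ⟨blt_iff.2 hm, beq_iff.2 rfl⟩, hm, e⟩

theorem vl_mul {w : List ℕ} (hw : okW w = true) {m : ℕ} (hm : m < 802)
    (hg : wd t w * wd t (gm m) ∈ D) (h1 : wd t w * wd t (gm m) ≠ 1) :
    vl (wa MT w (S3E.cv m)) = true ∧ idx (wa MT w (S3E.cv m)) < 802 ∧
      wd t w * wd t (gm m) = wd t (gm (idx (wa MT w (S3E.cv m)))) := by
  obtain ⟨h2, h3, -⟩ := gm_spec hm
  have e : wa MT (w ++ gm m) 177298 = wa MT w (S3E.cv m) := by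
    rw [← h3]
    induction w with
    | nil => rfl
    | cons s w ih => exact List.rec rfl (fun s _ ih => congrArg (ac (MT s)) ih) (s :: w)
  rw [← wd_append] at hg h1 ⊢
  rw [← e]
  exact Q.vl_of hP hk (okW_iff.2 fun s hs => (List.mem_append.1 hs).elim (okW_iff.1 hw s) (okW_iff.1 h2 s)) hg h1

theorem core {i j n NL PS AT S s : ℕ} {VL : List ℕ} (h : chkR i j n NL PS AT S s VL = true)
    (ha : t i * t j ∈ D) : Nat.card D * (Fx ϱ D).ncard ≤ 2 ^ 12 := by
  have := Q.U.finite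
  simp only [chkR, force_eq, an_iff, allLt_iff, imp_iff, ou_iff, beq_iff, lany_iff] at h
  obtain ⟨ok, c1, c2, c3, c4⟩ := h
  rw [← wd_two] at hk ha
  have hk' := wd_two t 0 5 ▸ hk
  have o5 : okW [0, 5] = true := by decide
  have k0 : ∀ m < 802, wd t (gm m) ∈ D → wd t (gm m) ∉ Z4 (wd t [0, 5]) (wd t [i, j]) →
      ps n NL PS m = true := fun m hm hg hz => by
    obtain ⟨-, h2, h3, h4⟩ := not_mem_Z4.1 hz
    exact c1 m hm (Q.vl_mul hP hk' o5 hm (D.mul_mem hk hg) h2).1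
      ⟨(Q.vl_mul hP hk' ok hm (D.mul_mem ha hg) h3).1, (Q.vl_mul hP hk' (w := [0, 5] ++ [i, j])
        (ok05 ok) hm (by rw [wd_append]; exact D.mul_mem (D.mul_mem hk ha) hg)
        (by rwa [wd_append])).1⟩
  let Rp : G → ℕ → Prop := fun g r => r < n ∧ fld 10 1023 NL r < 802 ∧ g = wd t (gm (fld 10 1023 NL r))
  have k0' : ∀ m < 802, ps n NL PS m = true → Rp (wd t (gm m)) (fld 7 127 PS m) := fun m hm h => by
    simp only [ps, an_iff, blt_iff, beq_iff] at h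
    exact ⟨h.1, by rwa [h.2], by rw [h.2]⟩
  have k1 : ∀ g ∈ D, g ∉ Z4 (wd t [0, 5]) (wd t [i, j]) → ∃ r, Rp g r := fun g hg hz => by
    obtain ⟨m, hm, rfl⟩ := exists_gm Q.U (hP _ hg (not_mem_Z4.1 hz).1) (hP.com Q.U.R.fs hk' hg)
    exact ⟨_, k0' m hm (k0 m hm hg hz)⟩
  have k2 : ∀ {b c r r'}, Rp b r → Rp c r' → b * c ∈ D → b * c ∉ Z4 (wd t [0, 5]) (wd t [i, j]) →
      (fld n (2 ^ n - 1) AT r).testBit r' = true ∧ ∃ q, Rp (b * c) q ∧
        fld n (2 ^ n - 1) AT r &&& fld n (2 ^ n - 1) AT r' &&& fld n (2 ^ n - 1) AT q = 0 := by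
    rintro _ _ r r' ⟨h1, h2, rfl⟩ ⟨h3, h4, rfl⟩ hg hz
    obtain ⟨h5, h6, e⟩ := Q.vl_mul hP hk' (gm_spec h2).1 h4 hg (not_mem_Z4.1 hz).1
    have h7 := k0 _ h6 (e ▸ hg) (e ▸ hz)
    have := c2 r h1 r' h3 ⟨h5, h7⟩
    exact ⟨tb_eq _ _ ▸ this.1, _, e ▸ k0' _ h6 h7, this.2⟩
  have f0 := Q.card_B
  have f1 := Q.chkS_spec c3 ok (by simpa using o5) (T := {wd t [0, 5]}) (by simp)
  rw [← wd_two] at f0
  have f2 := fx_mono ϱ (S := insert (wd t [i, j]) {wd t [0, 5]}) (T := D) (by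
    simp [Set.insert_subset_iff, ha, hk])
  by_cases hb : ∀ g ∈ D, g ∈ Z4 (wd t [0, 5]) (wd t [i, j])
  · have := Nat.mul_le_mul (card_le_four hb) f2
    rcases c4 with rfl | ⟨rfl, -⟩ <;> omega
  push Not at hb
  obtain ⟨b, hb, zb⟩ := hb
  obtain ⟨r, rb⟩ := k1 b hb zb
  have f3 : (Fx ϱ D).ncard ≤ 2 ^ 8 := by
    rcases c4 with rfl | ⟨rfl, c4⟩
    · omega
    obtain ⟨v, -, c5⟩ := c4 r rb.1
    have f4 := Q.chkS_spec c5 (gm_spec rb.2.1).1 (by simpa using ⟨o5, ok⟩)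
      (T := insert (wd t [i, j]) {wd t [0, 5]}) (by simp)
    have := fx_mono ϱ (S := insert b (insert (wd t [i, j]) {wd t [0, 5]})) (T := D) (by
      simp [Set.insert_subset_iff, ha, hk, hb])
    rw [← rb.2.2] at f4
    omega
  refine (Nat.mul_le_mul (?_ : _ ≤ 16) f3).trans (by norm_num)
  by_cases hc : ∀ c ∈ D, c ∈ Z4 (wd t [0, 5]) (wd t [i, j]) ∨ b * c ∈ Z4 (wd t [0, 5]) (wd t [i, j])
  · exact card_le_sixteen (b := b) (c := b) fun d hd => (hc d hd).imp id Or.inl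
  push Not at hc
  obtain ⟨c, hc, zc, zbc⟩ := hc
  obtain ⟨r', rc⟩ := k1 c hc zc
  obtain ⟨-, q, rq, e⟩ := k2 rb rc (D.mul_mem hb hc) zbc
  refine card_le_sixteen (k := wd t [0, 5]) (a := wd t [i, j]) (b := b) (c := c) fun d hd =>
    by_contra fun hn => ?_
  push Not at hn
  obtain ⟨u, ru⟩ := k1 d hd hn.1
  have := congrArg (·.testBit u) e
  simp [(k2 rb ru (D.mul_mem hb hd) hn.2.1).1, (k2 rc ru (D.mul_mem hc hd) hn.2.2.1).1,
    (k2 rq ru (D.mul_mem (D.mul_mem hb hc) hd) hn.2.2.2).1] at this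

theorem line (h4 : 4 ≤ Nat.card D) (hL : ∀ m < 802, wd t (gm m) ∈ D → tb LM m = true) :
    Nat.card D * (Fx ϱ D).ncard ≤ 2 ^ 12 := by
  have := Q.U.finite
  have o5 : okW [0, 5] = true := by decide
  have hk' := wd_two t 0 5 ▸ hk
  obtain ⟨a, ha, za⟩ : ∃ a ∈ D, a ∉ ({1, (wd t [0, 5])⁻¹} : Set G) := by
    by_contra hn
    push Not at hn
    have := (Set.ncard_le_ncard (show (D : Set G) ⊆ {1, (wd t [0, 5])⁻¹} from hn) (Set.toFinite _)).trans (Set.ncard_insert_le _ _)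
    rw [Set.ncard_singleton] at this
    exact absurd (h4.trans this) (by norm_num)
  simp only [Set.mem_insert_iff, Set.mem_singleton_iff, not_or, eq_comm (a := a), ← mul_eq_one_iff_inv_eq] at za
  obtain ⟨m, hm, rfl⟩ := exists_gm Q.U (hP _ ha (Ne.symm za.1)) (hP.com Q.U.R.fs hk ha)
  have c := allLt_iff.1 chk_L m hm
  simp only [force_eq, an_iff, allLt_iff, imp_iff, lany_iff, no_iff] at c
  obtain ⟨c1, c2⟩ := c (hL m hm ha)
  have vv : ∀ {w m'}, okW w = true → m' < 802 → wd t w * wd t (gm m') ∈ D → wd t w * wd t (gm m') ≠ 1 →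
      vL (wa MT w (S3E.cv m')) = true := fun hw hm' hg h1 => by
    obtain ⟨h2, h3, e⟩ := Q.vl_mul hP hk hw hm' hg h1
    rw [vL, force_eq]
    exact an_iff.2 ⟨h2, hL _ h3 (e ▸ hg)⟩
  obtain ⟨S, -, c3⟩ := c1 (Q.vl_mul hP hk o5 hm (D.mul_mem hk' ha) za.2).1
  have f0 := Q.card_B
  have f1 := Q.chkS_spec c3 (gm_spec hm).1 (by simpa using o5) (T := {wd t [0, 5]}) (by simp)
  rw [← wd_two] at f0
  have f2 := fx_mono ϱ (S := insert (wd t (gm m)) {wd t [0, 5]}) (T := D) (by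
    simp [Set.insert_subset_iff, ha, hk'])
  have := Nat.mul_le_mul (card_le_four (D := D) (k := wd t [0, 5]) (a := wd t (gm m)) fun b hb =>
    by_contra fun zb => by
      obtain ⟨h1, h2, h3, h4⟩ := not_mem_Z4.1 zb
      obtain ⟨m', hm', rfl⟩ := exists_gm Q.U (hP _ hb h1) (hP.com Q.U.R.fs hk hb)
      exact c2 m' hm' (hL m' hm' hb) ⟨vv o5 hm (D.mul_mem hk' ha) za.2, vv o5 hm' (D.mul_mem hk' hb) h2,
        vv (gm_spec hm).1 hm' (D.mul_mem ha hb) h3, vv (w := [0, 5] ++ gm m) (ok05 (gm_spec hm).1) hm' (by rw [wd_append]; exact D.mul_mem (D.mul_mem hk' ha) hb)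
          (by rwa [wd_append])⟩) f2
  omega

end Md

theorem star (U : UX E t) {σ : Rp G} (hi : Function.Injective σ) {D : Subgroup G} (hP : Pure E D)
    (h4 : 4 ≤ Nat.card D) : Nat.card D * (Fx σ D).ncard ≤ 2 ^ 12 := by
  have := U.finite
  have core : ∀ f, Real 693 op E f → f 0 * f 5 ∈ D → ∀ {i j n NL PS AT S s VL},
      chkR i j n NL PS AT S s VL = true → f i * f j ∈ D → Nat.card D * (Fx σ D).ncard ≤ 2 ^ 12 :=
    fun f R hk _ _ _ _ _ _ _ _ _ h ha => by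
      obtain ⟨β, Q⟩ := exists_model (U.of_real R) hi
      rw [← ncard_fx_cjR σ β]
      exact Q.core hP hk h ha
  obtain ⟨⟨k, hk⟩, h1⟩ := Subgroup.ne_bot_iff_exists_ne_one.1 (show D ≠ ⊥ by rintro rfl; simp at h4)
  obtain ⟨a, b, h, rfl⟩ := hP k hk (by simpa using h1)
  obtain ⟨f, R, rfl, rfl⟩ := T21.exists_pair ⟨t, U.R⟩ h
  by_cases hL : ∀ m < 802, wd f (gm m) ∈ D → tb LM m = true
  · obtain ⟨β, Q⟩ := exists_model (U.of_real R) hi
    rw [← ncard_fx_cjR σ β]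
    exact Q.line hP hk h4 hL
  push Not at hL
  obtain ⟨m, hm, ha, hL⟩ := hL
  have c := allLt_iff.1 chk_ty m hm
  have ok := okW_iff.1 (gm_spec hm).1
  rw [gm, wd_two] at ha
  rw [gm] at ok
  simp only [force_eq] at c
  generalize fld 10 1023 IT m = i at c ha ok
  generalize fld 10 1023 JT m = j at c ha ok
  have hi' : i < 693 := ok i (by simp)
  have hj' : j < 693 := ok j (by simp)
  obtain ⟨c0, c⟩ := an_iff.1 c
  rcases ou_iff.1 ((ou_iff.1 c).resolve_left hL) with c | c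
  · obtain ⟨g, J, e1, e2⟩ := R.step (by norm_num) (by simp) chk_W.1 chk_W.2.1 (fun s hs _ => R.mem hs)
      (R.mem hi') fun x hx e => by
        rw [R.inj hx hi' e, beq_iff.1 (an_iff.1 c).2]
        exact an_iff.2 ⟨beq_iff.1 (an_iff.1 c).2 ▸ (an_iff.1 c).1, (an_iff.1 c0).1⟩
    have R' := R.of_cj J subset_rfl
    refine core g R' (by rwa [e1 0 (by simp), e1 5 (by simp)]) chk_R1 ?_
    rwa [← chk_W.2.2.1, (ka_spec R' (by norm_num)).2, e1 0 (by simp), e1 5 (by simp), e2,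
      ← (ka_spec R hi').2, beq_iff.1 (an_iff.1 c).2]
  obtain ⟨g, J, e1, e2⟩ := R.step (by norm_num) (by simp) w_tri c_tri (fun s hs _ => R.mem hs)
    (R.mem hi') fun x hx e => by rw [R.inj hx hi' e]; exact (an_iff.1 c).1
  have R' := R.of_cj J subset_rfl
  have cij := (R.commute_iff hi' hj').2 (an_iff.1 c0).1
  have nij : f j ≠ f i := fun e => no_iff.1 (an_iff.1 c0).2 (beq_iff.2 (R.inj hj' hi' e))
  obtain ⟨x, hx, e3⟩ := List.mem_map.1 (mem_plane R' (R.mem hj')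
    (e1 0 (by simp) ▸ (R.commute_iff (by norm_num) hj').2 (an_iff.1 (an_iff.1 c).2).1)
    (e1 5 (by simp) ▸ (R.commute_iff (by norm_num) hj').2 (an_iff.1 (an_iff.1 c).2).2) (e2 ▸ cij))
  rw [← e1 0 (by simp), ← e1 5 (by simp)] at hk
  rw [← e2, ← e3] at ha cij nij
  have hx' := (fr_of_frB R' chk_plane_fr).1 x hx
  rcases chk_W.2.2.2 x hx with rfl | rfl | rfl | h | ⟨u, -, v, -, h⟩
  · exact absurd rfl nij
  · exact core g R' hk chk_R2 ha
  · refine core g R' hk chk_R2 ?_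
    have := D.mul_mem ha hk
    rwa [(com_true R' (a := 0) (b := 5) (by decide +kernel)).eq, mul_assoc, ← mul_assoc (g 5),
      R'.fs.sq (R'.mem hx'), one_mul] at this
  · obtain ⟨β, Q⟩ := exists_model (U.of_real R') hi
    have e : wd g [0, 5, 29, x] = g 0 * g 5 * (g 29 * g x) := by simp [wd, mul_assoc]
    refine absurd (Q.vl_of hP hk (okW_iff.2 (by simpa using hx')) (e ▸ D.mul_mem hk ha) fun q =>
      not_col R' fun p hp p0 p5 => ?_).1 (by simp [h])
    refine Fr.com_of_com_prod R.fs (l := [g 29, g x]) (fr_two.2 ⟨R'.mem (by norm_num), R'.mem hx', nij, cij⟩)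
      (by simp) hp ?_ _ (by simp)
    rw [e] at q
    simpa [eq_inv_of_mul_eq_one_right q] using (p0.mul_right p5).inv_right
  · simp only [List.map_cons, List.cons.injEq] at h
    refine core _ (R'.comp (((R'.ma_act (w := [105, 428, 221, 123]) (by decide)).iterate u).comp
      ((ma_dl R').iterate v))) ?_ chk_R3 ?_
    · rwa [Function.comp_apply (f := g), Function.comp_apply (f := g), h.1, h.2.1]
    · rwa [Function.comp_apply (f := g), Function.comp_apply (f := g), h.2.2.1, h.2.2.2.1]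

end CL.S3E
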